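import Mathlib
import Cfsg.Prelude.Def_Characters
import Cfsg.Prelude.Def_Blocks
import Cfsg.Agent.Lib.Helper17.PM2.Defs
import Cfsg.Agent.Lib.Helper77.CenterIrr

set_option autoImplicit false

/-!
# S4705 modules [F-PREG] [F-CEN] [F-PVAL] [F-INV] (helper45)

The class function `F(g) = |ζ(g)|² + ζ(g)² conj ζ(g^k)` of the counting argument of S4705
(sheet `Lib/Helper17/PM2/SPINE4705.md`).
-/

open Cfsg Cfsg.Agent.Lib.Helper17.PM2
open scoped ComplexConjugate commutatorElement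

universe u

namespace Cfsg.Agent.Lib.Helper45.S4705

/-- local copy of [CENTMUL] (left and right forms). -/
theorem cmul_aux {G : Type u} [Group G] [Finite G] {η : G → ℂ} (hη : IsIrrCharacter G η)
    {z : G} (hz : z ∈ Subgroup.center G) (g : G) :
    η (g * z) = η z / η 1 * η g ∧ ‖η z / η 1‖ = 1 := by
  let X : IrrCharacter G := ⟨η, hη⟩
  have hzc : z ∈ Cfsg.Agent.Lib.Helper77.irrCenter X := by
    rw [Cfsg.Agent.Lib.Helper77.mem_irrCenter_iff_commutator]
    intro h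
    have : ⁅z, h⁆ = 1 := by
      rw [commutatorElement_eq_one_iff_mul_comm]
      exact (Subgroup.mem_center_iff.mp hz h).symm
    rw [this]
    exact Subgroup.one_mem _
  have h1 := Cfsg.Agent.Lib.Helper77.irr_center_mul X ⟨z, hzc⟩ g
  rw [Cfsg.Agent.Lib.Helper77.irrCenterScalar_apply] at h1
  have hcomm : g * z = z * g := Subgroup.mem_center_iff.mp hz g
  refine ⟨by rw [hcomm]; exact h1, ?_⟩
  have h2 := (Cfsg.Agent.Lib.Helper77.mem_irrCenter X z).mp hzc
  have h3 : (X : G → ℂ) 1 ≠ 0 := by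
    rw [Cfsg.Agent.Lib.Helper77.irr_apply_one]
    exact_mod_cast Cfsg.Agent.Lib.Helper77.irrDim_ne_zero X
  have h4 : ‖η 1‖ ≠ 0 := by
    rw [norm_ne_zero_iff]; exact h3
  rw [norm_div]
  change ‖η z‖ = ‖η 1‖ at h2
  rw [h2]
  exact div_self h4


section Chain

variable {G : Type u} [Group G] [Fintype G] {p : ℕ} (S : Setting G p)

theorem zeta_one_ne_zero (S : Setting G p) : S.ζ 1 ≠ 0 := by
  rw [S.hdeg]
  have h5 := S.h5
  have h2 : (p : ℂ) ≠ 2 := by exact_mod_cast (by omega : p ≠ 2)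
  exact sub_ne_zero.mpr h2

theorem conj_deg : conj ((p : ℂ) - 2) = (p : ℂ) - 2 := by
  simp [map_sub, Complex.conj_ofNat]

/-- the central character `θ(z) = ζ(z)/ζ(1)` has `θ conj θ = 1`, `ζ(g z) = θ ζ(g)`,
`ζ(z²) = θ² ζ(1)`, `ζ(z) = θ ζ(1)`. -/
theorem theta_facts (S : Setting G p) {z : G} (hz : z ∈ Subgroup.center G) :
    ∃ θ : ℂ, θ * conj θ = 1 ∧ (∀ g : G, S.ζ (g * z) = θ * S.ζ g) ∧
      S.ζ (z ^ 2) = θ ^ 2 * ((p : ℂ) - 2) ∧ S.ζ z = θ * ((p : ℂ) - 2) ∧
      (∀ g : G, S.ζ (g * z ^ 2) = θ ^ 2 * S.ζ g) := by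
  have h1 := fun g => (cmul_aux S.hζ hz g).1
  have h2 := (cmul_aux S.hζ hz 1).2
  have h0 := zeta_one_ne_zero S
  have hz2 : z ^ 2 ∈ Subgroup.center G := Subgroup.pow_mem _ hz 2
  have h3 := fun g => (cmul_aux S.hζ hz2 g).1
  have hzz : S.ζ z = S.ζ z / S.ζ 1 * S.ζ 1 := by field_simp
  have hsq : S.ζ (z ^ 2) = (S.ζ z / S.ζ 1) ^ 2 * S.ζ 1 := by
    rw [pow_two z, h1 z]; field_simp
  refine ⟨S.ζ z / S.ζ 1, ?_, h1, ?_, ?_, ?_⟩
  · rw [Complex.mul_conj, Complex.normSq_eq_norm_sq, h2]; simp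
  · rw [hsq, S.hdeg]
  · rw [← S.hdeg]; exact hzz
  · intro g
    rw [h3 g, hsq]; field_simp

theorem F_center (hodd : ∀ z ∈ Subgroup.center G, Odd (orderOf z))
    (z : G) (hz : z ∈ Subgroup.center G) : S.F z = ((p : ℂ) - 2) ^ 2 * ((p : ℂ) - 1) := by
  obtain ⟨θ, hθ, hmul, hsq, hzz, -⟩ := theta_facts S hz
  have hk : z ^ S.k = z ^ 2 := S.hkodd z (hodd z hz)
  unfold Setting.F
  rw [hk, hsq, hzz]
  simp only [map_mul, map_pow, conj_deg]
  linear_combination (((p : ℂ) - 2) ^ 2 + ((p : ℂ) - 2) ^ 3 * (θ * conj θ + 1)) * hθ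

theorem odd_p (S : Setting G p) : Odd p := by
  rcases S.hp.eq_two_or_odd' with h | h
  · have := S.h5; omega
  · exact h

theorem pow_p_eq_one (S : Setting G p) {y : G} (hy : y ∈ (S.P : Subgroup G)) : y ^ p = 1 := by
  have h1 : (⟨y, hy⟩ : (S.P : Subgroup G)) ^ Nat.card (S.P : Subgroup G) = 1 := pow_card_eq_one'
  have h2 : Nat.card (S.P : Subgroup G) = p := S.hP
  rw [h2] at h1
  have := congrArg (Subtype.val) h1
  simpa using this

theorem odd_order_P (S : Setting G p) {y : G} (hy : y ∈ (S.P : Subgroup G)) : Odd (orderOf y) :=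
  Odd.of_dvd_nat (odd_p S) (orderOf_dvd_of_pow_eq_one (pow_p_eq_one S hy))

theorem F_invariance (hodd : ∀ z ∈ Subgroup.center G, Odd (orderOf z)) :
    IsClassFunction G S.F ∧
      ∀ y ∈ (S.P : Subgroup G), ∀ z ∈ Subgroup.center G, S.F (y * z) = S.F y := by
  constructor
  · obtain ⟨n, ρ, _, hρ⟩ := S.hζ
    have hcf : ∀ g h : G, S.ζ (h * g * h⁻¹) = S.ζ g := by
      intro g h; rw [← hρ]; exact ρ.char_conj g h
    intro g h
    unfold Setting.F
    rw [conj_pow, hcf, hcf]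
  · intro y hy z hz
    obtain ⟨θ, hθ, hmul, hsq, hzz, hmul2⟩ := theta_facts S hz
    have hyodd := odd_order_P S hy
    have hzodd := hodd z hz
    have hcomm : Commute y z := Subgroup.mem_center_iff.mp hz y
    have hyz : Odd (orderOf (y * z)) := by
      have h1 : (y * z) ^ (orderOf y * orderOf z) = 1 := by
        rw [hcomm.mul_pow, pow_mul, pow_orderOf_eq_one, one_pow, mul_comm (orderOf y), pow_mul,
          pow_orderOf_eq_one, one_pow, one_mul]
      exact Odd.of_dvd_nat (hyodd.mul hzodd) (orderOf_dvd_of_pow_eq_one h1)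
    have hk1 : (y * z) ^ S.k = y ^ 2 * z ^ 2 := by
      rw [S.hkodd _ hyz, hcomm.mul_pow]
    have hk2 : y ^ S.k = y ^ 2 := S.hkodd _ hyodd
    unfold Setting.F
    rw [hk1, hk2, hmul y, hmul2 (y ^ 2)]
    simp only [map_mul, map_pow]
    linear_combination (S.ζ y * conj (S.ζ y) +
      S.ζ y ^ 2 * conj (S.ζ (y ^ 2)) * (θ * conj θ + 1)) * hθ

/-- a nontrivial character of `P` sums to zero. -/
theorem sum_hom_zero (S : Setting G p) [Fintype ↥(S.P : Subgroup G)]
    (χ : ↥(S.P : Subgroup G) →* ℂˣ) (hχ : χ ≠ 1) :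
    ∑ y : ↥(S.P : Subgroup G), ((χ y : ℂˣ) : ℂ) = 0 := by
  have h := sum_hom_units_eq_zero ((Units.coeHom ℂ).comp χ) (by
    intro h
    apply hχ
    ext y
    have := congrArg (fun f : ↥(S.P : Subgroup G) →* ℂ => f y) h
    simpa using this)
  simpa using h

/-- powers prime to `p` of a nontrivial character of `P` are nontrivial. -/
theorem pow_ne_one_of_coprime (S : Setting G p) (χ : ↥(S.P : Subgroup G) →* ℂˣ) (hχ : χ ≠ 1)
    (m : ℕ) (hm : m.Coprime p) : χ ^ m ≠ 1 := by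
  intro h
  apply hχ
  ext y
  have h1 : (χ y) ^ m = 1 := by
    have := congrArg (fun f : ↥(S.P : Subgroup G) →* ℂˣ => f y) h
    simpa using this
  have h2 : (χ y) ^ p = 1 := by
    rw [← map_pow]
    have : y ^ p = 1 := by
      have h3 : y ^ Nat.card (S.P : Subgroup G) = 1 := pow_card_eq_one'
      have h4 : Nat.card (S.P : Subgroup G) = p := S.hP
      rwa [h4] at h3
    rw [this, map_one]
  have h3 : orderOf (χ y) ∣ Nat.gcd m p :=
    Nat.dvd_gcd (orderOf_dvd_of_pow_eq_one h1) (orderOf_dvd_of_pow_eq_one h2)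
  rw [hm] at h3
  have h4 : orderOf (χ y) = 1 := Nat.dvd_one.mp h3
  have := orderOf_eq_one_iff.mp h4
  simp [this]

theorem F_sum_P [Fintype ↥(S.P : Subgroup G)] :
    ∑ y : ↥(S.P : Subgroup G), S.F (y : G) = 4 + S.F 1 := by
  classical
  set ψ := S.D.ψ S.ζ with hψdef
  have hψ1 : ψ ≠ 1 := S.D.hψ1 S.ζ S.D.hζY
  have hp5 := S.h5
  have hpodd := odd_p S
  have hcop2 : (2 : ℕ).Coprime p := by
    rw [Nat.coprime_comm, Nat.Prime.coprime_iff_not_dvd S.hp]
    intro h
    have := Nat.le_of_dvd (by norm_num) h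
    omega
  have hcop4 : (4 : ℕ).Coprime p := by
    rw [Nat.coprime_comm, Nat.Prime.coprime_iff_not_dvd S.hp]
    intro h
    have := Nat.le_of_dvd (by norm_num) h
    omega
  have hinv1 : ψ⁻¹ ≠ 1 := by
    intro h; apply hψ1
    ext y
    have h1 : (ψ⁻¹) y = 1 := by rw [h]; rfl
    rw [MonoidHom.inv_apply, inv_eq_one] at h1
    simp [h1]
  have s1 := sum_hom_zero S (ψ ^ 2) (pow_ne_one_of_coprime S ψ hψ1 2 hcop2)
  have s2 := sum_hom_zero S (ψ⁻¹ ^ 2) (pow_ne_one_of_coprime S ψ⁻¹ hinv1 2 hcop2)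
  have s3 := sum_hom_zero S (ψ ^ 4) (pow_ne_one_of_coprime S ψ hψ1 4 hcop4)
  have s4 := sum_hom_zero S (ψ⁻¹ ^ 4) (pow_ne_one_of_coprime S ψ⁻¹ hinv1 4 hcop4)
  -- pointwise formula
  have key : ∀ y : ↥(S.P : Subgroup G), S.F (y : G) =
      -(((ψ ^ 2) y : ℂˣ) : ℂ) - (((ψ⁻¹ ^ 2) y : ℂˣ) : ℂ) - (((ψ ^ 4) y : ℂˣ) : ℂ)
        - (((ψ⁻¹ ^ 4) y : ℂˣ) : ℂ) + (if y = 1 then S.F 1 + 4 else 0) := by
    intro y
    by_cases hy : y = 1
    · subst hy
      simp
      ring
    · rw [if_neg hy, add_zero]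
      have hyodd : Odd (orderOf (y : G)) := odd_order_P S y.2
      have hk : (y : G) ^ S.k = (y : G) ^ 2 := S.hkodd _ hyodd
      have hy2 : y ^ 2 ≠ 1 := by
        intro h
        apply hy
        have h3 : y ^ Nat.card (S.P : Subgroup G) = 1 := pow_card_eq_one'
        have h4 : Nat.card (S.P : Subgroup G) = p := S.hP
        rw [h4] at h3
        have h5 : orderOf y ∣ Nat.gcd 2 p :=
          Nat.dvd_gcd (orderOf_dvd_of_pow_eq_one h) (orderOf_dvd_of_pow_eq_one h3)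
        rw [hcop2] at h5
        exact orderOf_eq_one_iff.mp (Nat.dvd_one.mp h5)
      have v1 := S.D.hYval S.ζ S.D.hζY y hy
      have v2 := S.D.hYval S.ζ S.D.hζY (y ^ 2) hy2
      rw [← hψdef] at v1 v2
      have hcoe : ((y ^ 2 : ↥(S.P : Subgroup G)) : G) = (y : G) ^ 2 := by simp
      rw [hcoe, map_pow] at v2
      -- ω = ψ y
      set ω : ℂˣ := ψ y with hω
      have hωp : ω ^ p = 1 := by
        rw [hω, ← map_pow]
        have h3 : y ^ Nat.card (S.P : Subgroup G) = 1 := pow_card_eq_one'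
        have h4 : Nat.card (S.P : Subgroup G) = p := S.hP
        rw [h4] at h3
        rw [h3, map_one]
      have hnorm : ‖(ω : ℂ)‖ = 1 := by
        have : (ω : ℂ) ^ p = 1 := by rw [← Units.val_pow_eq_pow_val, hωp, Units.val_one]
        exact Complex.norm_eq_one_of_pow_eq_one this (by omega)
      have hconj : conj (ω : ℂ) = ((ω⁻¹ : ℂˣ) : ℂ) := by
        rw [Units.val_inv_eq_inv_val, Complex.inv_eq_conj hnorm]
      have hconj' : conj ((ω⁻¹ : ℂˣ) : ℂ) = (ω : ℂ) := by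
        rw [← hconj, Complex.conj_conj]
      have hab : (ω : ℂ) * ((ω⁻¹ : ℂˣ) : ℂ) = 1 := by
        rw [← Units.val_mul, mul_inv_cancel, Units.val_one]
      have v2' : S.ζ ((y : G) ^ 2) = -((ω : ℂ) ^ 2 + ((ω⁻¹ : ℂˣ) : ℂ) ^ 2) := by
        rw [v2, ← inv_pow, Units.val_pow_eq_pow_val, Units.val_pow_eq_pow_val]
      unfold Setting.F
      rw [hk, v1, v2']
      simp only [map_neg, map_add, map_pow, hconj, hconj', MonoidHom.pow_apply,
        MonoidHom.inv_apply, Units.val_pow_eq_pow_val, ← hω]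
      linear_combination (-2 : ℂ) * ((ω : ℂ) ^ 2 + ((ω⁻¹ : ℂˣ) : ℂ) ^ 2 +
        (ω : ℂ) * ((ω⁻¹ : ℂˣ) : ℂ)) * hab
  rw [Finset.sum_congr rfl (fun y _ => key y)]
  rw [Finset.sum_add_distrib, Finset.sum_sub_distrib, Finset.sum_sub_distrib,
    Finset.sum_sub_distrib, Finset.sum_neg_distrib, s1, s2, s3, s4]
  simp
  ring

theorem F_preg (_hodd : ∀ z ∈ Subgroup.center G, Odd (orderOf z))
    (hinv : ∀ t : G, orderOf t = 2 → S.ζ t = -1) (hno4 : ∀ g : G, orderOf g ≠ 4)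
    (hvalodd : ∀ g : G, Odd (orderOf g) → ¬ p ∣ orderOf g → g ∉ Subgroup.center G → S.ζ g = 0)
    (hvalmix : ∀ u x : G, orderOf u = 2 → Odd (orderOf x) → Commute u x → ¬ p ∣ orderOf x →
      x ∉ Subgroup.center G → S.ζ (u * x) = 0)
    (g : G) (hreg : ¬ p ∣ orderOf g) (hnc : g ∉ Subgroup.center G) : S.F g = 0 := by
  have hnpos : orderOf g ≠ 0 := (orderOf_pos g).ne'
  obtain ⟨a, m, hm, hn⟩ := Nat.exists_eq_two_pow_mul_odd hnpos
  have hm0 : m ≠ 0 := by rintro rfl; simp at hm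
  rcases Nat.lt_or_ge a 2 with ha | ha
  · interval_cases a
    · -- odd order
      have hgo : Odd (orderOf g) := by rw [hn]; simpa using hm
      have h0 := hvalodd g hgo hreg hnc
      unfold Setting.F
      rw [h0]; simp
    · -- order 2 m
      have hn' : orderOf g = 2 * m := by rw [hn]; ring
      set u := g ^ m with hu
      set x := g ^ (m + 1) with hx
      have huo : orderOf u = 2 := by
        rw [hu, orderOf_pow_of_dvd hm0 (by rw [hn']; exact Dvd.intro_left 2 rfl), hn']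
        exact Nat.mul_div_cancel _ (Nat.pos_of_ne_zero hm0)
      have hux : u * x = g := by
        rw [hu, hx, ← pow_add, show m + (m + 1) = 2 * m + 1 by ring, pow_succ, ← hn',
          pow_orderOf_eq_one, one_mul]
      have hcomm : Commute u x := (Commute.refl g).pow_pow m (m + 1)
      have hxm : x ^ m = 1 := by
        obtain ⟨j, hj⟩ := hm
        rw [hx, ← pow_mul]
        have : (m + 1) * m = orderOf g * (j + 1) := by rw [hn', hj]; ring
        rw [this, pow_mul, pow_orderOf_eq_one, one_pow]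
      have hxodd : Odd (orderOf x) := Odd.of_dvd_nat hm (orderOf_dvd_of_pow_eq_one hxm)
      have hxreg : ¬ p ∣ orderOf x := fun h => hreg (h.trans (by rw [hx]; exact orderOf_pow_dvd _))
      by_cases hxc : x ∈ Subgroup.center G
      · obtain ⟨θ, hθ, hmul, hsq, hzz, hmul2⟩ := theta_facts S hxc
        have hk : g ^ S.k = u * x ^ 2 := by
          rw [← hux]; exact S.hk2 u x hcomm ⟨1, by rw [huo]; norm_num⟩ hxodd
        unfold Setting.F
        rw [hk, hmul2 u, ← hux, hmul u, hinv u huo]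
        simp only [map_mul, map_pow, map_neg, map_one]
        linear_combination (-(θ * conj θ)) * hθ
      · have h0 := hvalmix u x huo hxodd hcomm hxreg hxc
        unfold Setting.F
        rw [← hux, h0]; simp
  · exfalso
    apply hno4 (g ^ (m * 2 ^ (a - 2)))
    have hdvd : m * 2 ^ (a - 2) ∣ orderOf g := by
      rw [hn]
      refine ⟨4, ?_⟩
      have : 2 ^ a = 2 ^ (a - 2) * 4 := by
        rw [show (4 : ℕ) = 2 ^ 2 by norm_num, ← pow_add]; congr 1; omega
      rw [this]; ring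
    have hne : m * 2 ^ (a - 2) ≠ 0 := by positivity
    rw [orderOf_pow_of_dvd hne hdvd, hn]
    have : 2 ^ a = 2 ^ (a - 2) * 4 := by
      rw [show (4 : ℕ) = 2 ^ 2 by norm_num, ← pow_add]; congr 1; omega
    rw [this]
    rw [show 2 ^ (a - 2) * 4 * m = 4 * (m * 2 ^ (a - 2)) by ring]
    exact Nat.mul_div_cancel _ (Nat.pos_of_ne_zero hne)

end Chain

end Cfsg.Agent.Lib.Helper45.S4705
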